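import Mathlib.RingTheory.Smooth.Flat
import Mathlib.RingTheory.Smooth.NoetherianDescent
import Mathlib.RingTheory.RingHom.StandardSmooth
import Mathlib.RingTheory.RingHom.LocallyStandardSmooth
import Mathlib.RingTheory.Unramified.Field
import Mathlib.RingTheory.Ideal.MinimalPrime.Noetherian
import Mathlib.RingTheory.Localization.FractionRing
import Mathlib.RingTheory.TensorProduct.Pi
import Mathlib.LinearAlgebra.TensorProduct.Finiteness
import Mathlib.RingTheory.MvPolynomial.Basic
import Mathlib.RingTheory.Nilpotent.Lemmas

/-!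
# Smooth algebras over reduced rings are reduced
-/

open TensorProduct

set_option linter.style.haveILetI false

namespace Groth.Agent.SmoothRed

universe u

theorem isReduced_of_smooth_field (k S : Type u) [Field k] [CommRing S] [Algebra k S] [Algebra.Smooth k S] :
    IsReduced S := by
  refine ⟨fun x hx => ?_⟩
  obtain ⟨s, hs, h⟩ := Algebra.Smooth.exists_span_eq_top_isStandardSmooth k S
  have hloc : ∀ t ∈ s, algebraMap S (Localization.Away t) x = 0 := by
    intro t ht
    have hst := h t ht
    obtain ⟨ι, σ, _, _, ⟨P⟩⟩ := hst.out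
    have hdim : Algebra.IsStandardSmoothOfRelativeDimension P.dimension k (Localization.Away t) :=
      ⟨ι, σ, inferInstance, inferInstance, P, rfl⟩
    obtain ⟨g, hg⟩ := Algebra.IsStandardSmoothOfRelativeDimension.exists_etale_mvPolynomial P.dimension k (Localization.Away t)
    letI := g.toRingHom.toAlgebra
    haveI : Algebra.Etale (MvPolynomial (Fin P.dimension) k) (Localization.Away t) := hg
    let Q := MvPolynomial (Fin P.dimension) k
    let L := FractionRing Q
    haveI : IsReduced (L ⊗[Q] Localization.Away t) := Algebra.FormallyUnramified.isReduced_of_field L _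
    have hinj : Function.Injective (Algebra.TensorProduct.includeRight : Localization.Away t →ₐ[Q] L ⊗[Q] Localization.Away t) :=
      Algebra.TensorProduct.includeRight_injective (IsFractionRing.injective Q L)
    refine hinj ?_
    rw [map_zero]
    exact ((hx.map (algebraMap S (Localization.Away t))).map _).eq_zero
  have hann : Ideal.span s ≤ Ideal.radical (LinearMap.ker (LinearMap.toSpanSingleton S S x) : Ideal S) := by
    rw [Ideal.span_le]
    intro t ht
    obtain ⟨⟨_, n, rfl⟩, hn⟩ := (IsLocalization.map_eq_zero_iff (Submonoid.powers t) (Localization.Away t) x).1 (hloc t ht)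
    exact ⟨n, by simpa using hn⟩
  rw [hs, top_le_iff, Ideal.radical_eq_top] at hann
  have : (1 : S) ∈ LinearMap.ker (LinearMap.toSpanSingleton S S x) := by rw [hann]; exact Submodule.mem_top
  simpa using this

theorem isReduced_of_smooth_noetherian (R S : Type u) [CommRing R] [IsNoetherianRing R] [IsReduced R]
    [CommRing S] [Algebra R S] [Algebra.Smooth R S] : IsReduced S := by
  classical
  refine ⟨fun x hx => ?_⟩
  haveI : Finite (minimalPrimes R) := (minimalPrimes.finite_of_isNoetherianRing R).to_subtype
  letI := Fintype.ofFinite (minimalPrimes R)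
  haveI : ∀ p : minimalPrimes R, p.1.IsPrime := fun p => p.2.1.1
  let K : minimalPrimes R → Type u := fun p => FractionRing (R ⧸ p.1)
  let f : R →ₐ[R] (∀ p, K p) := Algebra.ofId R _
  have hf : Function.Injective f := by
    rw [injective_iff_map_eq_zero]
    intro r hr
    have hmem : r ∈ nilradical R := by
      rw [nilradical_eq_sInf, Submodule.mem_sInf]
      intro P hP
      haveI : Ideal.IsPrime P := hP
      obtain ⟨p, hp, hle⟩ := Ideal.exists_minimalPrimes_le (J := P) (I := (⊥ : Ideal R)) bot_le
      refine hle (Ideal.Quotient.eq_zero_iff_mem.1 (IsFractionRing.injective (R ⧸ p) (FractionRing (R ⧸ p)) ?_))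
      rw [map_zero]
      exact congrFun hr ⟨p, hp⟩
    exact (mem_nilradical.1 hmem).eq_zero
  have hinj : Function.Injective (Algebra.TensorProduct.includeLeft : S →ₐ[R] S ⊗[R] (∀ p, K p)) := by
    exact Algebra.TensorProduct.includeLeft_injective hf
  apply hinj
  rw [map_zero]
  apply (Algebra.TensorProduct.piRight R R S K).injective
  rw [map_zero]
  funext p
  haveI : IsReduced (K p ⊗[R] S) := isReduced_of_smooth_field (FractionRing (R ⧸ p.1)) _
  haveI : IsReduced (S ⊗[R] K p) := isReduced_of_injective (Algebra.TensorProduct.comm R S (K p)).toRingHom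
    (Algebra.TensorProduct.comm R S (K p)).injective
  exact (((hx.map (Algebra.TensorProduct.includeLeft : S →ₐ[R] S ⊗[R] (∀ p, K p))).map
    (Algebra.TensorProduct.piRight R R S K)).map (Pi.evalRingHom _ p)).eq_zero

theorem isReduced_of_smooth (R S : Type u) [CommRing R] [IsReduced R]
    [CommRing S] [Algebra R S] [Algebra.Smooth R S] : IsReduced S := by
  obtain ⟨A₀, B₀, _, _, hfg, _, ⟨e⟩⟩ := Algebra.Smooth.exists_subalgebra_fg ℤ R S
  haveI : IsReduced (R ⊗[A₀] B₀) := by
    refine ⟨fun x hx => ?_⟩
    obtain ⟨N, hN, hxN⟩ := exists_finite_submodule_left_of_setFinite {x} (Set.finite_singleton x)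
    obtain ⟨s, hs⟩ := hN
    let A' : Subalgebra A₀ R := Algebra.adjoin A₀ ((N.subtype '' s : Set R))
    haveI : Algebra.FiniteType A₀ A' := ⟨(Subalgebra.fg_top _).2 (Subalgebra.fg_def.2 ⟨_, s.finite_toSet.image _, rfl⟩)⟩
    haveI : Algebra.FiniteType ℤ A₀ := ⟨(Subalgebra.fg_top _).2 hfg⟩
    haveI : IsNoetherianRing A₀ := Algebra.FiniteType.isNoetherianRing ℤ _
    haveI : IsNoetherianRing A' := Algebra.FiniteType.isNoetherianRing A₀ _
    haveI : IsReduced A' := isReduced_of_injective A'.val.toRingHom Subtype.val_injective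
    haveI : IsReduced (A' ⊗[A₀] B₀) := isReduced_of_smooth_noetherian A' (A' ⊗[A₀] B₀)
    let F : A' ⊗[A₀] B₀ →ₐ[A₀] R ⊗[A₀] B₀ := Algebra.TensorProduct.map A'.val (AlgHom.id A₀ B₀)
    have hF : Function.Injective F :=
      Module.Flat.rTensor_preserves_injective_linearMap (M := B₀) A'.val.toLinearMap Subtype.val_injective
    have hle : N ≤ Subalgebra.toSubmodule A' := by
      have : Submodule.map N.subtype (Submodule.span A₀ (s : Set N)) = N := by
        rw [hs, Submodule.map_top, Submodule.range_subtype]
      rw [← this, Submodule.map_span, Submodule.span_le]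
      exact Algebra.subset_adjoin
    obtain ⟨y, hy⟩ := hxN (Set.mem_singleton x)
    have hxF : F ((Submodule.inclusion hle).rTensor B₀ y) = x := by
      rw [← hy]
      clear hy
      induction y using TensorProduct.induction_on with
      | zero => simp
      | tmul a b => rfl
      | add a b ha hb => simp [ha, hb]
    rw [← hxF] at hx ⊢
    have h0 : (Submodule.inclusion hle).rTensor B₀ y = (0 : A' ⊗[A₀] B₀) :=
      ((IsNilpotent.map_iff hF).1 hx).eq_zero
    rw [h0, map_zero]
  exact isReduced_of_injective e.toRingHom e.injective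

end Groth.Agent.SmoothRed
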